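import Cfsg.Agent.H209.EPX.Defs
import Cfsg.Agent.S4040
import Cfsg.Agent.H936.AutPow

/-!
# S5745, engine E1 (helper807): the inequality `E_π`

`Fx H x` = number of fixed points of `x` on `G / H`; `Sec H x` = `|x^G ∩ H|`.

* `Fx_mul` : `Fx H x * |H| = |C_G(x)| * |x^G ∩ H|`;
* `EPi` : if every two-point stabiliser `H ∩ H^y` (`y ∉ H`) has order divisible by a prime of `π` then
  `|G:H| - 1 ≤ ∑_{x ∈ H, |x| ∈ π} (Fx H x - 1) / (|x| - 1)`;
* `EPi_cent`, `EPi_order`, `EPi_crude` : consequences with centralizer orders;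
* `EPS.not_isPGroup` : for `s` odd no two-point stabiliser is an `s`-group; `EPS.two_group` : what remains for `s = 2`;
* `EPS.card_le_odd`, `EPS.card_le_two` : `|G| ≤ |H| ^ 2 * z` if `|C_G(x)| ≤ z * (|x| - 1)` for all `x ∈ H` of prime
  order `≠ s`.
-/

set_option autoImplicit false
set_option linter.unusedSectionVars false

namespace Cfsg.Agent.H807.EPX

open MulAction Subgroup Cfsg.Agent.H284 Cfsg.Agent.H209.EPX

variable {G : Type*} [Group G] (H : Subgroup G)

/-- number of fixed points of `x` on `G / H` -/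
noncomputable def Fx (x : G) : ℕ := {c : G ⧸ H | x • c = c}.ncard

/-- `|x^G ∩ H|` -/
noncomputable def Sec (x : G) : ℕ := {y : G | y ∈ H ∧ IsConj x y}.ncard

variable {H}

theorem smul_mk_eq {x g : G} : x • (g : G ⧸ H) = g ↔ g⁻¹ * x * g ∈ H := by
  rw [MulAction.Quotient.smul_coe, smul_eq_mul, eq_comm, QuotientGroup.eq, mul_assoc]

theorem ncard_conj_mem [Finite G] (x : G) :
    {g : G | g⁻¹ * x * g ∈ H}.ncard = Nat.card (centralizer {x}) * Sec H x := by
  classical
  have := Fintype.ofFinite G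
  have h1 : ∀ y ∈ ({y : G | y ∈ H ∧ IsConj x y} : Set G).toFinset,
      (Finset.univ.filter fun g : G => g⁻¹ * x * g = y).card = Nat.card (centralizer {x}) := by
    intro y hy
    rw [Set.mem_toFinset] at hy
    obtain ⟨c, hc⟩ := isConj_iff.1 hy.2
    rw [Nat.card_eq_fintype_card, ← Finset.card_univ]
    refine (Finset.card_nbij' (i := fun k : centralizer {x} => (k : G) * c⁻¹)
      (j := fun g => if h : g * c ∈ centralizer {x} then ⟨g * c, h⟩ else 1) ?_ ?_ ?_ ?_).symm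
    · rintro ⟨k, hk⟩ -
      rw [Finset.coe_filter, Set.mem_ofPred_eq]
      refine ⟨Finset.mem_univ _, ?_⟩
      rw [mem_centralizer_singleton_iff] at hk
      show (k * c⁻¹)⁻¹ * x * (k * c⁻¹) = y
      rw [← hc]
      have : (k * c⁻¹)⁻¹ * x * (k * c⁻¹) = c * (k⁻¹ * (x * k)) * c⁻¹ := by group
      rw [this, ← hk]
      group
    · intro g _
      exact Finset.mem_coe.2 (Finset.mem_univ _)
    · rintro ⟨k, hk⟩ -
      have e : k * c⁻¹ * c = k := by group
      have h2 : k * c⁻¹ * c ∈ centralizer {x} := by rw [e]; exact hk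
      show (if h : k * c⁻¹ * c ∈ centralizer {x} then (⟨k * c⁻¹ * c, h⟩ : centralizer {x}) else 1) = ⟨k, hk⟩
      rw [dif_pos h2]
      exact Subtype.ext e
    · intro g hg
      rw [Finset.coe_filter, Set.mem_ofPred_eq] at hg
      have h2 : g * c ∈ centralizer {x} := by
        rw [mem_centralizer_singleton_iff]
        have h3 := hg.2
        rw [← hc] at h3
        have h4 : x * g = g * (c * x * c⁻¹) := by rw [← h3]; group
        calc g * c * x = g * (c * x * c⁻¹) * c := by group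
          _ = x * (g * c) := by rw [← h4, mul_assoc]
      show ((if h : g * c ∈ centralizer {x} then (⟨g * c, h⟩ : centralizer {x}) else 1 : centralizer {x}) : G) * c⁻¹ = g
      rw [dif_pos h2]
      show g * c * c⁻¹ = g
      group
  rw [Sec, Set.ncard_eq_toFinset_card', Set.ncard_eq_toFinset_card']
  rw [Finset.card_eq_sum_card_fiberwise (f := fun g : G => g⁻¹ * x * g)
    (t := ({y : G | y ∈ H ∧ IsConj x y} : Set G).toFinset)]
  · have h2 : ∀ y ∈ ({y : G | y ∈ H ∧ IsConj x y} : Set G).toFinset,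
        (Finset.filter (fun g : G => g⁻¹ * x * g = y) ({g : G | g⁻¹ * x * g ∈ H} : Set G).toFinset).card =
          Nat.card (centralizer {x}) := by
      intro y hy
      rw [← h1 y hy]
      congr 1
      ext g
      rw [Finset.mem_filter, Finset.mem_filter, Set.mem_toFinset]
      constructor
      · rintro ⟨_, h⟩
        exact ⟨Finset.mem_univ _, h⟩
      · rintro ⟨_, h⟩
        refine ⟨?_, h⟩
        show g⁻¹ * x * g ∈ H
        rw [h]
        exact (Set.mem_toFinset.1 hy).1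
    rw [Finset.sum_congr rfl h2, Finset.sum_const, smul_eq_mul, mul_comm]
  · intro g hg
    rw [Finset.mem_coe, Set.mem_toFinset] at hg ⊢
    exact ⟨hg, isConj_iff.2 ⟨g⁻¹, by rw [inv_inv]⟩⟩

theorem Fx_mul [Finite G] (x : G) : Fx H x * Nat.card H = Nat.card (centralizer {x}) * Sec H x := by
  classical
  rw [← ncard_conj_mem]
  have h1 : {g : G | g⁻¹ * x * g ∈ H}.ncard = Nat.card {g : G // (g : G ⧸ H) ∈ {c : G ⧸ H | x • c = c}} := by
    rw [← Nat.card_coe_set_eq]
    apply Nat.card_congr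
    apply Equiv.subtypeEquivRight
    intro g
    exact smul_mk_eq.symm
  rw [h1, Fx, ← Nat.card_coe_set_eq, ← Nat.card_prod]
  symm
  apply Nat.card_congr
  let S : Set (G ⧸ H) := {c | x • c = c}
  show {g : G // (g : G ⧸ H) ∈ S} ≃ S × H
  refine (Equiv.sigmaFiberEquiv (fun g : {g : G // (g : G ⧸ H) ∈ S} => (⟨(g.1 : G ⧸ H), g.2⟩ : S))).symm.trans ?_
  refine (Equiv.sigmaCongrRight fun c : S => ?_).trans (Equiv.sigmaEquivProd _ _)
  obtain ⟨c, hc⟩ := c
  refine
    { toFun := fun g => ⟨c.out⁻¹ * g.1.1, ?_⟩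
      invFun := fun k => ⟨⟨c.out * k, ?_⟩, ?_⟩
      left_inv := ?_
      right_inv := ?_ }
  · have h2 := congrArg Subtype.val g.2
    have h3 : ((g.1.1 : G) : G ⧸ H) = (c.out : G ⧸ H) := by rw [QuotientGroup.out_eq']; exact h2
    exact QuotientGroup.eq.1 h3.symm
  · have h3 : ((c.out * k : G) : G ⧸ H) = c := by
      conv_rhs => rw [← QuotientGroup.out_eq' c]
      rw [eq_comm, QuotientGroup.eq, inv_mul_cancel_left]
      exact k.2
    rw [h3]
    exact hc
  · apply Subtype.ext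
    show ((c.out * k : G) : G ⧸ H) = c
    conv_rhs => rw [← QuotientGroup.out_eq' c]
    rw [eq_comm, QuotientGroup.eq, inv_mul_cancel_left]
    exact k.2
  · intro g
    apply Subtype.ext
    apply Subtype.ext
    exact mul_inv_cancel_left _ _
  · intro k
    apply Subtype.ext
    exact inv_mul_cancel_left _ _

theorem one_le_Fx [Finite G] {x : G} (hx : x ∈ H) : 1 ≤ Fx H x := by
  rw [Fx, Nat.one_le_iff_ne_zero, Ne, Set.ncard_eq_zero (Set.toFinite _), ← Ne, ← Set.nonempty_iff_ne_empty]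
  refine ⟨((1 : G) : G ⧸ H), ?_⟩
  show x • ((1 : G) : G ⧸ H) = _
  rw [smul_mk_eq]
  simpa using hx

/-- a subgroup of order divisible by the prime `r` has at least `r - 1` elements of order `r` -/
theorem le_ncard_ord [Finite G] (K : Subgroup G) {r : ℕ} (hr : r.Prime) (hd : r ∣ Nat.card K) :
    r - 1 ≤ {x : G | x ∈ K ∧ orderOf x = r}.ncard := by
  classical
  have := Fact.mk hr
  obtain ⟨y, hy⟩ := exists_prime_orderOf_dvd_card' r hd
  have hy' : orderOf (y : G) = r := by rw [Subgroup.orderOf_coe]; exact hy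
  have h1 : ((zpowers (y : G) : Set G) \ {1}) ⊆ {x : G | x ∈ K ∧ orderOf x = r} := by
    rintro x ⟨hx, hx1⟩
    rw [SetLike.mem_coe] at hx
    refine ⟨(zpowers_le.2 y.2) hx, ?_⟩
    have h2 : orderOf x ∣ r := by rw [← hy']; exact orderOf_dvd_of_mem_zpowers hx
    rcases (Nat.dvd_prime hr).1 h2 with h3 | h3
    · exact absurd (orderOf_eq_one_iff.1 h3) hx1
    · exact h3
  refine le_trans (le_of_eq ?_) (Set.ncard_le_ncard h1 (Set.toFinite _))
  rw [Set.ncard_sdiff_singleton_of_mem (show (1 : G) ∈ (zpowers (y : G) : Set G) from one_mem _)]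
  have h2 : (zpowers (y : G) : Set G).ncard = r := by
    rw [← Nat.card_coe_set_eq]
    show Nat.card (zpowers (y : G)) = r
    rw [Nat.card_zpowers, hy']
  rw [h2]

/-- **E_π**. -/
theorem EPi [Finite G] {π : Set ℕ} (hπ : ∀ r ∈ π, r.Prime)
    (hM : ∀ y ∉ H, ∃ r ∈ π, r ∣ Nat.card (H ⊓ cj y H : Subgroup G)) :
    (H.index : ℚ) - 1 ≤ ∑ x ∈ (Set.toFinite {x : G | x ∈ H ∧ orderOf x ∈ π}).toFinset,
      ((Fx H x : ℚ) - 1) / ((orderOf x : ℚ) - 1) := by
  classical
  have := Fintype.ofFinite (G ⧸ H)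
  set P := (Set.toFinite {x : G | x ∈ H ∧ orderOf x ∈ π}).toFinset with hP
  have hPm : ∀ x, x ∈ P ↔ x ∈ H ∧ orderOf x ∈ π := fun x => by rw [hP, Set.Finite.mem_toFinset]; rfl
  set o : G ⧸ H := ((1 : G) : G ⧸ H) with ho
  have hFx : ∀ x ∈ P, (Fx H x : ℚ) - 1 = ∑ c ∈ Finset.univ.erase o, if x • c = c then (1 : ℚ) else 0 := by
    intro x hx
    rw [Finset.sum_boole, Finset.filter_erase]
    have h1 : o ∈ Finset.filter (fun c : G ⧸ H => x • c = c) Finset.univ := by
      rw [Finset.mem_filter]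
      refine ⟨Finset.mem_univ _, ?_⟩
      rw [ho, smul_mk_eq]
      simpa using ((hPm x).1 hx).1
    have h2 : Fx H x = (Finset.filter (fun c : G ⧸ H => x • c = c) Finset.univ).card := by
      rw [Fx, Set.ncard_eq_toFinset_card']
      congr 1
      ext c
      simp
    rw [Finset.card_erase_of_mem h1, h2, Nat.cast_sub (Finset.card_pos.2 ⟨_, h1⟩), Nat.cast_one]
  have hS : ∑ x ∈ P, ((Fx H x : ℚ) - 1) / ((orderOf x : ℚ) - 1) =
      ∑ c ∈ Finset.univ.erase o, ∑ x ∈ P, (if x • c = c then (1 : ℚ) else 0) / ((orderOf x : ℚ) - 1) := by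
    rw [Finset.sum_comm]
    apply Finset.sum_congr rfl
    intro x hx
    rw [hFx x hx, Finset.sum_div]
  have hn : (H.index : ℚ) - 1 = ∑ c ∈ (Finset.univ : Finset (G ⧸ H)).erase o, (1 : ℚ) := by
    rw [Finset.sum_const, nsmul_eq_mul, mul_one, Finset.card_erase_of_mem (Finset.mem_univ _),
      Nat.cast_sub (Finset.card_pos.2 ⟨_, Finset.mem_univ o⟩), Nat.cast_one, Finset.card_univ,
      ← Nat.card_eq_fintype_card]
    rfl
  rw [hS, hn]
  apply Finset.sum_le_sum
  intro c hc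
  obtain ⟨y, rfl⟩ := QuotientGroup.mk_surjective c
  have hy : y ∉ H := by
    intro hy
    apply (Finset.mem_erase.1 hc).1
    rw [ho, eq_comm, QuotientGroup.eq, inv_one, one_mul]
    exact hy
  obtain ⟨r, hr, hd⟩ := hM y hy
  have hrp := hπ r hr
  have h1 := le_ncard_ord _ hrp hd
  have hr1 : (0 : ℚ) < (r : ℚ) - 1 := by
    have : (1 : ℚ) < r := by exact_mod_cast hrp.one_lt
    linarith
  set R := (Set.toFinite {x : G | x ∈ H ⊓ cj y H ∧ orderOf x = r}).toFinset with hR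
  have hRP : R ⊆ P := by
    intro x hx
    rw [hR, Set.Finite.mem_toFinset] at hx
    rw [hPm]
    exact ⟨(mem_inf.1 hx.1).1, by rw [hx.2]; exact hr⟩
  refine le_trans ?_ (Finset.sum_le_sum_of_subset_of_nonneg hRP ?_)
  · have h2 : ∀ x ∈ R, (if x • (y : G ⧸ H) = y then (1 : ℚ) else 0) / ((orderOf x : ℚ) - 1) = 1 / ((r : ℚ) - 1) := by
      intro x hx
      rw [hR, Set.Finite.mem_toFinset] at hx
      rw [if_pos, hx.2]
      rw [smul_mk_eq]
      exact mem_cj.1 (mem_inf.1 hx.1).2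
    rw [Finset.sum_congr rfl h2, Finset.sum_const, nsmul_eq_mul, mul_one_div, le_div_iff₀ hr1, one_mul]
    have h3 : R.card = {x : G | x ∈ H ⊓ cj y H ∧ orderOf x = r}.ncard := by
      rw [hR, Set.ncard_eq_toFinset_card _ (Set.toFinite _)]
    rw [h3]
    have h4 : ((r - 1 : ℕ) : ℚ) ≤ ({x : G | x ∈ H ⊓ cj y H ∧ orderOf x = r}.ncard : ℚ) := by exact_mod_cast h1
    rwa [Nat.cast_sub hrp.one_lt.le, Nat.cast_one] at h4
  · intro x hx _
    apply div_nonneg
    · split_ifs
      · exact zero_le_one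
      · exact le_rfl
    · have : (1 : ℚ) ≤ orderOf x := by exact_mod_cast (hπ _ ((hPm x).1 hx).2).one_lt.le
      linarith

/-- **E_π** with the centralizer orders. -/
theorem EPi_cent [Finite G] {π : Set ℕ} (hπ : ∀ r ∈ π, r.Prime)
    (hM : ∀ y ∉ H, ∃ r ∈ π, r ∣ Nat.card (H ⊓ cj y H : Subgroup G)) :
    (Nat.card G : ℚ) - Nat.card H ≤ ∑ x ∈ (Set.toFinite {x : G | x ∈ H ∧ orderOf x ∈ π}).toFinset,
      ((Nat.card (centralizer {x}) : ℚ) * Sec H x - Nat.card H) / ((orderOf x : ℚ) - 1) := by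
  have h1 := EPi hπ hM
  have h0 : (0 : ℚ) < Nat.card H := by exact_mod_cast Nat.card_pos
  have h2 := mul_le_mul_of_nonneg_right h1 h0.le
  have e1 : ((H.index : ℚ) - 1) * Nat.card H = (Nat.card G : ℚ) - Nat.card H := by
    rw [sub_mul, one_mul]
    congr 1
    rw [mul_comm]
    exact_mod_cast H.card_mul_index
  rw [e1, Finset.sum_mul] at h2
  refine h2.trans (le_of_eq ?_)
  apply Finset.sum_congr rfl
  intro x _
  rw [div_mul_eq_mul_div, sub_mul, one_mul]
  congr 2
  exact_mod_cast Fx_mul x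

theorem orderOf_cj (c x : G) : orderOf (c * x * c⁻¹) = orderOf x :=
  (SemiconjBy.orderOf_eq c (x := x) (y := c * x * c⁻¹) (by show c * x = c * x * c⁻¹ * c; group)).symm

theorem Sec_le [Finite G] (x : G) : Sec H x ≤ {y : G | y ∈ H ∧ orderOf y = orderOf x}.ncard := by
  apply Set.ncard_le_ncard _ (Set.toFinite _)
  rintro y ⟨hy, hxy⟩
  refine ⟨hy, ?_⟩
  obtain ⟨c, rfl⟩ := isConj_iff.1 hxy
  exact orderOf_cj c x

/-- **E_π**, order by order: `N r` bounds the number of elements of order `r` of `H`, `a r` bounds `|x^G ∩ H|`,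
`z r` bounds `|C_G(x)|`. -/
theorem EPi_order [Finite G] {π : Finset ℕ} (hπ : ∀ r ∈ π, r.Prime)
    (hM : ∀ y ∉ H, ∃ r ∈ π, r ∣ Nat.card (H ⊓ cj y H : Subgroup G)) (N a z : ℕ → ℕ)
    (hN : ∀ r ∈ π, {x : G | x ∈ H ∧ orderOf x = r}.ncard ≤ N r)
    (ha : ∀ x ∈ H, orderOf x ∈ π → Sec H x ≤ a (orderOf x))
    (hz : ∀ x ∈ H, orderOf x ∈ π → Nat.card (centralizer {x}) ≤ z (orderOf x)) :
    (Nat.card G : ℚ) ≤ Nat.card H + ∑ r ∈ π, (N r : ℚ) * (a r * z r) / ((r : ℚ) - 1) := by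
  classical
  have h1 := EPi_cent (H := H) (π := (π : Set ℕ)) (fun r hr => hπ r hr) hM
  set P := (Set.toFinite {x : G | x ∈ H ∧ orderOf x ∈ (π : Set ℕ)}).toFinset with hP
  have hPm : ∀ x, x ∈ P ↔ x ∈ H ∧ orderOf x ∈ π := fun x => by rw [hP, Set.Finite.mem_toFinset]; rfl
  have hr1 : ∀ r ∈ π, (0 : ℚ) < (r : ℚ) - 1 := by
    intro r hr
    have : (1 : ℚ) < r := by exact_mod_cast (hπ r hr).one_lt
    linarith
  have h2 : ∑ x ∈ P, ((Nat.card (centralizer {x}) : ℚ) * Sec H x - Nat.card H) / ((orderOf x : ℚ) - 1) ≤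
      ∑ r ∈ π, (N r : ℚ) * (a r * z r) / ((r : ℚ) - 1) := by
    rw [← Finset.sum_fiberwise_of_maps_to (s := P) (t := π) (g := fun x => orderOf x)
      (fun x hx => ((hPm x).1 hx).2)]
    apply Finset.sum_le_sum
    intro r hr
    have h3 : ∀ x ∈ P.filter (fun x => orderOf x = r),
        ((Nat.card (centralizer {x}) : ℚ) * Sec H x - Nat.card H) / ((orderOf x : ℚ) - 1) ≤
          (a r * z r) / ((r : ℚ) - 1) := by
      intro x hx
      rw [Finset.mem_filter] at hx
      obtain ⟨hx1, hx2⟩ := hx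
      have hx3 := (hPm x).1 hx1
      have h4 : (Sec H x : ℚ) ≤ a r := by rw [← hx2]; exact_mod_cast ha x hx3.1 hx3.2
      have h5 : (Nat.card (centralizer {x}) : ℚ) ≤ z r := by rw [← hx2]; exact_mod_cast hz x hx3.1 hx3.2
      rw [hx2]
      apply div_le_div_of_nonneg_right _ (hr1 r hr).le
      have h6 : (0 : ℚ) ≤ Nat.card H := Nat.cast_nonneg _
      have h7 : (Nat.card (centralizer {x}) : ℚ) * Sec H x ≤ z r * a r :=
        mul_le_mul h5 h4 (Nat.cast_nonneg _) (Nat.cast_nonneg _)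
      rw [mul_comm (a r : ℚ)]
      linarith
    refine (Finset.sum_le_card_nsmul _ _ _ h3).trans ?_
    rw [nsmul_eq_mul, mul_div_assoc (N r : ℚ)]
    apply mul_le_mul_of_nonneg_right _ (div_nonneg (by positivity) (hr1 r hr).le)
    have h8 : (P.filter (fun x => orderOf x = r)).card = {x : G | x ∈ H ∧ orderOf x = r}.ncard := by
      rw [Set.ncard_eq_toFinset_card _ (Set.toFinite _)]
      congr 1
      ext x
      rw [Finset.mem_filter, hPm, Set.Finite.mem_toFinset]
      constructor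
      · rintro ⟨⟨h, _⟩, h'⟩
        exact ⟨h, h'⟩
      · rintro ⟨h, h'⟩
        exact ⟨⟨h, by rw [h']; exact hr⟩, h'⟩
    rw [h8]
    exact_mod_cast hN r hr
  linarith

/-- **E_π**, crude form: `N` bounds the number of elements of `H` of order in `π`. -/
theorem EPi_crude [Finite G] {π : Set ℕ} (hπ : ∀ r ∈ π, r.Prime)
    (hM : ∀ y ∉ H, ∃ r ∈ π, r ∣ Nat.card (H ⊓ cj y H : Subgroup G)) {N a z : ℕ}
    (hN : {x : G | x ∈ H ∧ orderOf x ∈ π}.ncard ≤ N)
    (ha : ∀ x ∈ H, orderOf x ∈ π → Sec H x ≤ a)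
    (hz : ∀ x ∈ H, orderOf x ∈ π → Nat.card (centralizer {x}) ≤ z * (orderOf x - 1)) :
    Nat.card G ≤ Nat.card H + N * (a * z) := by
  classical
  have h1 := EPi_cent hπ hM
  set P := (Set.toFinite {x : G | x ∈ H ∧ orderOf x ∈ π}).toFinset with hP
  have hPm : ∀ x, x ∈ P ↔ x ∈ H ∧ orderOf x ∈ π := fun x => by rw [hP, Set.Finite.mem_toFinset]; rfl
  have h3 : ∀ x ∈ P, ((Nat.card (centralizer {x}) : ℚ) * Sec H x - Nat.card H) / ((orderOf x : ℚ) - 1) ≤ a * z := by
    intro x hx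
    have hx3 := (hPm x).1 hx
    have hr1 : (0 : ℚ) < (orderOf x : ℚ) - 1 := by
      have : (1 : ℚ) < orderOf x := by exact_mod_cast (hπ _ hx3.2).one_lt
      linarith
    have h4 : (Sec H x : ℚ) ≤ a := by exact_mod_cast ha x hx3.1 hx3.2
    have h5 : (Nat.card (centralizer {x}) : ℚ) ≤ z * ((orderOf x : ℚ) - 1) := by
      have h6 : (Nat.card (centralizer {x}) : ℚ) ≤ ((z * (orderOf x - 1) : ℕ) : ℚ) := by
        exact_mod_cast hz x hx3.1 hx3.2
      rwa [Nat.cast_mul, Nat.cast_sub (hπ _ hx3.2).one_lt.le, Nat.cast_one] at h6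
    rw [div_le_iff₀ hr1]
    have h6 : (0 : ℚ) ≤ Nat.card H := Nat.cast_nonneg _
    have h7 : (Nat.card (centralizer {x}) : ℚ) * Sec H x ≤ z * ((orderOf x : ℚ) - 1) * a :=
      mul_le_mul h5 h4 (Nat.cast_nonneg _) (mul_nonneg (Nat.cast_nonneg _) hr1.le)
    have e : (a : ℚ) * z * ((orderOf x : ℚ) - 1) = z * ((orderOf x : ℚ) - 1) * a := by ring
    rw [e]
    linarith
  have h2 := h1.trans (Finset.sum_le_card_nsmul _ _ _ h3)
  rw [nsmul_eq_mul] at h2
  have h8 : (P.card : ℚ) ≤ N := by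
    have : P.card = {x : G | x ∈ H ∧ orderOf x ∈ π}.ncard := by
      rw [hP, Set.ncard_eq_toFinset_card _ (Set.toFinite _)]
    rw [this]
    exact_mod_cast hN
  have h9 : (P.card : ℚ) * (a * z) ≤ N * (a * z) := mul_le_mul_of_nonneg_right h8 (by positivity)
  have h10 : (Nat.card G : ℚ) ≤ ((Nat.card H + N * (a * z) : ℕ) : ℚ) := by
    push_cast
    linarith
  exact_mod_cast h10

/-- `|G| ≤ |H| ^ 2 * z` if `|C_G(x)| ≤ z * (|x| - 1)` for all `x ∈ H` of order in `π` -/
theorem EPi_sq [Finite G] {π : Set ℕ} (hπ : ∀ r ∈ π, r.Prime)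
    (hM : ∀ y ∉ H, ∃ r ∈ π, r ∣ Nat.card (H ⊓ cj y H : Subgroup G)) (hH : H ≠ ⊤) {z : ℕ}
    (hz : ∀ x ∈ H, orderOf x ∈ π → Nat.card (centralizer {x}) ≤ z * (orderOf x - 1)) :
    Nat.card G ≤ Nat.card H ^ 2 * z := by
  classical
  have hsub : {x : G | x ∈ H ∧ orderOf x ∈ π} ⊆ (H : Set G) \ {1} := by
    rintro x ⟨hx, hx'⟩
    refine ⟨hx, fun e => ?_⟩
    rw [Set.mem_singleton_iff] at e
    rw [e, orderOf_one] at hx'
    exact (hπ 1 hx').one_lt.ne rfl
  have hc : ((H : Set G) \ {1}).ncard = Nat.card H - 1 := by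
    rw [Set.ncard_sdiff_singleton_of_mem (show (1 : G) ∈ (H : Set G) from one_mem _)]
    rfl
  have hN : {x : G | x ∈ H ∧ orderOf x ∈ π}.ncard ≤ Nat.card H - 1 := by
    rw [← hc]
    exact Set.ncard_le_ncard hsub (Set.toFinite _)
  have ha : ∀ x ∈ H, orderOf x ∈ π → Sec H x ≤ Nat.card H - 1 := by
    intro x hx hx'
    rw [← hc]
    refine Set.ncard_le_ncard ?_ (Set.toFinite _)
    rintro y ⟨hy, hxy⟩
    refine ⟨hy, fun e => ?_⟩
    rw [Set.mem_singleton_iff] at e
    obtain ⟨c, hc⟩ := isConj_iff.1 hxy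
    rw [e] at hc
    have h1 : x = 1 := by
      rw [mul_inv_eq_one] at hc
      exact mul_eq_left.1 hc
    rw [h1, orderOf_one] at hx'
    exact (hπ 1 hx').one_lt.ne rfl
  have h1 := EPi_crude hπ hM hN ha hz
  -- `z ≥ 1` and `|H| ≥ 2`
  obtain ⟨y, hy⟩ : ∃ y, y ∉ H := by
    by_contra hcon
    push Not at hcon
    exact hH ((Subgroup.eq_top_iff' H).2 hcon)
  obtain ⟨r, hr, hd⟩ := hM y hy
  have hrp := hπ r hr
  have h2 := le_ncard_ord _ hrp hd
  have h3 : {x : G | x ∈ H ⊓ cj y H ∧ orderOf x = r}.Nonempty := by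
    rw [Set.nonempty_iff_ne_empty]
    intro e
    rw [e, Set.ncard_empty] at h2
    have := hrp.one_lt
    omega
  obtain ⟨x, hx1, hx2⟩ := h3
  have h4 := hz x (mem_inf.1 hx1).1 (by rw [hx2]; exact hr)
  have h5 : 0 < Nat.card (centralizer {x}) := Nat.card_pos
  have hz0 : 0 < z := by
    rcases Nat.eq_zero_or_pos z with h | h
    · rw [h, zero_mul] at h4
      omega
    · exact h
  have hH0 : 0 < Nat.card H := Nat.card_pos
  obtain ⟨m, hm⟩ : ∃ m, Nat.card H = m + 1 := ⟨Nat.card H - 1, by omega⟩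
  have hx0 : x ∈ H := (mem_inf.1 hx1).1
  have hm0 : 0 < m := by
    rcases Nat.eq_zero_or_pos m with h | h
    · rw [h, zero_add] at hm
      rw [Subgroup.card_eq_one] at hm
      rw [hm, mem_bot] at hx0
      rw [hx0, orderOf_one] at hx2
      exact absurd hx2 hrp.one_lt.ne
    · exact h
  rw [hm, Nat.add_sub_cancel] at h1
  rw [hm]
  nlinarith [Nat.mul_le_mul_left m hz0]

/-! ### the two-point stabilisers which are `s`-groups -/

section

variable [Finite G]

theorem isCoatom_two (h : EP H) {x : G} (hx : x ∉ H) : IsCoatom ((H ⊓ cj x H).subgroupOf H) := by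
  refine ⟨?_, ?_⟩
  · intro e
    rw [subgroupOf_eq_top] at e
    exact h.not_le_cj hx (e.trans inf_le_right)
  · intro L hL
    rcases h.two x hx (L.map H.subtype) (by
      intro y hy
      exact ⟨⟨y, (mem_inf.1 hy).1⟩, hL.le hy, rfl⟩) (by
      rintro _ ⟨y, _, rfl⟩
      exact y.2) with h1 | h1
    · exfalso
      apply hL.not_ge
      intro y hy
      have h2 : (y : G) ∈ L.map H.subtype := ⟨y, hy, rfl⟩
      rw [h1] at h2
      exact h2
    · rw [Subgroup.eq_top_iff']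
      intro y
      have h2 : (y : G) ∈ L.map H.subtype := by rw [h1]; exact y.2
      obtain ⟨z, hz, e⟩ := h2
      have : z = y := Subtype.ext e
      rwa [← this]

variable {N : Subgroup G} {T : Type} [Group T] {k : ℕ} {e : N ≃* (Fin k → T)}

theorem EPS.not_solvable (h : EPS H N e) : ¬ Group.IsSolvable H := by
  intro hs
  have hT := h.simple
  let i : Fin k := ⟨0, h.pos⟩
  let f : T →* H := (Subgroup.inclusion h.le).comp (e.symm.toMonoidHom.comp (MonoidHom.mulSingle (fun _ => T) i))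
  have hf : Function.Injective f := by
    intro a b hab
    have h1 := Subgroup.inclusion_injective h.le hab
    have h2 := e.symm.injective h1
    exact Pi.mulSingle_injective i h2
  have h1 : Group.IsSolvable T := Group.isSolvable_of_isSolvable_injective (f := f) hf
  obtain ⟨a, b, hab⟩ := h.nab
  exact hab (IsSimpleGroup.comm_iff_isSolvable.2 h1 a b)

/-- for `s` odd no two-point stabiliser is an `s`-group -/
theorem EPS.not_isPGroup (h : EPS H N e) {s : ℕ} (hs : s.Prime) (hs2 : s ≠ 2) {x : G} (hx : x ∉ H) :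
    ¬ IsPGroup s (H ⊓ cj x H : Subgroup G) := by
  intro hp
  have := Fact.mk hs
  have hp' : IsPGroup s ((H ⊓ cj x H).subgroupOf H) := hp.of_equiv (subgroupOfEquivOfLe inf_le_left).symm
  apply EPS.not_solvable h
  apply Cfsg.Agent.S4040.result _ (isCoatom_two h.ep hx) hp'.isNilpotent
  obtain ⟨n, hn⟩ := IsPGroup.iff_card.1 hp'
  rw [hn]
  exact (hs.odd_of_ne_two hs2).pow

/-- If a two-point stabiliser is an `s`-group then every proper subgroup `X` of `N` of index prime to `s` whose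
`N`-class is `H`-invariant is an `s`-group. -/
theorem EPS.pgroup_crit (h : EPS H N e) {s : ℕ} (hs : s.Prime) {x : G} (hx : x ∉ H)
    (hp : IsPGroup s (H ⊓ cj x H : Subgroup G)) {X : Subgroup G} (hXN : X ≤ N) (hne : X ≠ N)
    (hi : ¬ s ∣ X.relIndex N) (hcl : ∀ g ∈ H, ∃ n ∈ N, cj g X = cj n X) : IsPGroup s X := by
  have := Fact.mk hs
  by_cases hX0 : X = ⊥
  · rw [hX0]
    exact IsPGroup.of_bot
  have hp' : IsPGroup s ((H ⊓ cj x H).subgroupOf H) := hp.of_equiv (subgroupOfEquivOfLe inf_le_left).symm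
  set M : Subgroup H := (H ⊓ cj x H).subgroupOf H with hM
  have hMc : IsCoatom M := isCoatom_two h.ep hx
  -- the stabiliser of `X` in `H`
  let W : Subgroup H :=
    { carrier := {g | cj (g : G) X = X}
      one_mem' := cj_one X
      mul_mem' := by
        intro a b ha hb
        show cj ((a : G) * b) X = X
        rw [cj_mul, show cj (b : G) X = X from hb, show cj (a : G) X = X from ha]
      inv_mem' := by
        intro a ha
        show cj (a : G)⁻¹ X = X
        conv_lhs => rw [← show cj (a : G) X = X from ha]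
        exact cj_inv_cj _ _ }
  have hW : ∀ g : H, g ∈ W ↔ cj (g : G) X = X := fun g => Iff.rfl
  let N' : Subgroup H := N.subgroupOf H
  have hXH : X ≤ H := hXN.trans h.le
  have hXW : X.subgroupOf H ≤ W := by
    intro y hy
    rw [hW]
    exact cj_eq_self hy
  -- `N'` is transitive on `H / W`
  have htr : MulAction.IsPretransitive N' (H ⧸ W) := by
    have key : ∀ c : H ⧸ W, ∃ n : N', n • ((1 : H) : H ⧸ W) = c := by
      intro c
      obtain ⟨g, rfl⟩ := QuotientGroup.mk_surjective c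
      obtain ⟨n, hn, he⟩ := hcl g g.2
      refine ⟨⟨⟨n, h.le hn⟩, hn⟩, ?_⟩
      show ((⟨n, h.le hn⟩ * 1 : H) : H ⧸ W) = g
      rw [mul_one, QuotientGroup.eq, hW]
      show cj (n⁻¹ * (g : G)) X = X
      rw [cj_mul, he, cj_inv_cj]
    refine ⟨fun a b => ?_⟩
    obtain ⟨m, rfl⟩ := key a
    obtain ⟨n, rfl⟩ := key b
    exact ⟨n * m⁻¹, by rw [mul_smul, inv_smul_smul]⟩
  have hWi : W.index ∣ X.relIndex N := by
    have h1 : (stabilizer N' ((1 : H) : H ⧸ W)).index = Nat.card (H ⧸ W) :=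
      MulAction.index_stabilizer_of_transitive N' _
    have h2 : W.index = (stabilizer N' ((1 : H) : H ⧸ W)).index := h1.symm
    rw [h2]
    have h3 : (X.subgroupOf H).subgroupOf N' ≤ stabilizer N' ((1 : H) : H ⧸ W) := by
      intro y hy
      rw [mem_stabilizer_iff]
      show (((y : H) * 1 : H) : H ⧸ W) = ((1 : H) : H ⧸ W)
      rw [mul_one, eq_comm, QuotientGroup.eq, inv_one, one_mul]
      exact hXW hy
    refine (Subgroup.index_dvd_of_le h3).trans (dvd_of_eq ?_)
    show (X.subgroupOf H).relIndex N' = X.relIndex N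
    exact relIndex_subgroupOf h.le
  have hcop : ¬ s ∣ Nat.card (H ⧸ W) := fun hd => hi (hd.trans hWi)
  obtain ⟨c, hc⟩ := hp'.nonempty_fixed_point_of_prime_not_dvd_card (H ⧸ W) hcop
  obtain ⟨g, rfl⟩ := QuotientGroup.mk_surjective c
  have hMW : M ≤ cj g W := by
    intro m hm
    rw [mem_cj]
    have h1 : (⟨m, hm⟩ : M) • ((g : H) : H ⧸ W) = g := hc ⟨m, hm⟩
    exact smul_mk_eq.1 h1
  have hWp : IsPGroup s W := by
    rcases hMW.lt_or_eq with h1 | h1
    · exfalso
      have h2 := hMc.2 _ h1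
      have h3 : W = ⊤ := by
        rw [← cj_inv_cj g W, h2, Subgroup.eq_top_iff']
        intro y
        rw [mem_cj]
        exact mem_top _
      have h4 : NIn X H := by
        refine ⟨hXH, fun g hg y hy => ?_⟩
        have h5 : cj g X = X := (hW ⟨g, hg⟩).1 (by rw [h3]; exact mem_top _)
        have h6 := conj_mem_cj (x := g) hy
        rwa [h5] at h6
      rcases h.min X hXN h4 with h5 | h5
      · exact hX0 h5
      · exact hne h5
    · have e1 : W ≃* cj g W := W.equivMapOfInjective _ (MulAut.conj g).injective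
      rw [← h1] at e1
      exact hp'.of_equiv e1.symm
  exact (hWp.to_le hXW).of_equiv (subgroupOfEquivOfLe hXH)

/-- **No two-point stabiliser is an `s`-group** if `T` has a proper subgroup `X₀` of index prime to `s` which is not an
`s`-group and whose class is invariant under `Aut(T)`. -/
theorem EPS.not_isPGroup_of (h : EPS H N e) {s : ℕ} (hs : s.Prime) {X₀ : Subgroup T} (hne : X₀ ≠ ⊤)
    (hi : ¬ s ∣ X₀.index) (hX : ¬ IsPGroup s X₀) (hcl : ∀ σ : MulAut T, ∃ t : T, ∀ a ∈ X₀, t⁻¹ * σ a * t ∈ X₀)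
    {x : G} (hx : x ∉ H) : ¬ IsPGroup s (H ⊓ cj x H : Subgroup G) := by
  intro hp
  have hT := h.simple
  have hTn : ¬ IsMulCommutative T := by
    intro hc
    obtain ⟨a, b, hab⟩ := h.nab
    exact hab (hc.is_comm.comm a b)
  have hTf : Finite T := by
    have : Finite (Fin k → T) := Finite.of_equiv _ e.toEquiv
    exact Finite.of_injective _ (Pi.mulSingle_injective (M := fun _ : Fin k => T) (⟨0, h.pos⟩ : Fin k))
  let P : Subgroup (Fin k → T) := Subgroup.pi Set.univ fun _ => X₀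
  have hP : ∀ y, y ∈ P ↔ ∀ i, y i ∈ X₀ := fun y => by
    show (y ∈ Subgroup.pi Set.univ fun _ => X₀) ↔ _
    rw [Subgroup.mem_pi]
    simp
  let Y : Subgroup N := P.comap e.toMonoidHom
  have hY : ∀ y : N, y ∈ Y ↔ ∀ i, e y i ∈ X₀ := fun y => hP (e y)
  let X : Subgroup G := Y.map N.subtype
  have hXm : ∀ (y : G) (hy : y ∈ N), y ∈ X ↔ ∀ i, e ⟨y, hy⟩ i ∈ X₀ := by
    intro y hy
    rw [← hY]
    constructor
    · rintro ⟨z, hz, rfl⟩
      exact hz
    · intro h1
      exact ⟨_, h1, rfl⟩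
  have hXN : X ≤ N := by
    rintro _ ⟨y, _, rfl⟩
    exact y.2
  have hne' : X ≠ N := by
    intro he
    apply hne
    rw [Subgroup.eq_top_iff']
    intro t
    have h1 : ((e.symm fun _ => t : N) : G) ∈ X := by rw [he]; exact (e.symm fun _ => t).2
    have h2 := (hXm _ (e.symm fun _ => t).2).1 h1 ⟨0, h.pos⟩
    have h3 : (⟨((e.symm fun _ => t : N) : G), (e.symm fun _ => t).2⟩ : N) = e.symm fun _ => t := rfl
    rwa [h3, MulEquiv.apply_symm_apply] at h2
  have hidx : X.relIndex N = X₀.index ^ k := by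
    have h1 : X.relIndex N = Y.index := by
      show (X.subgroupOf N).index = Y.index
      congr 1
      ext y
      rw [mem_subgroupOf]
      exact ⟨fun ⟨z, hz, he⟩ => by rwa [← show z = y from Subtype.ext he], fun hy => ⟨y, hy, rfl⟩⟩
    rw [h1]
    have h2 : Y.index = P.index := Subgroup.index_comap_of_surjective P e.surjective
    rw [h2]
    have h3 : P.index = ∏ _i : Fin k, X₀.index := Subgroup.index_pi _
    rw [h3, Finset.prod_const, Finset.card_univ, Fintype.card_fin]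
  have hXp := EPS.pgroup_crit h hs hx hp hXN hne' (by
    rw [hidx]
    intro hd
    exact hi (hs.dvd_of_dvd_pow hd)) (by
    intro g hg
    -- the automorphism of `T ^ k`
    have hgN : ∀ n ∈ N, g * n * g⁻¹ ∈ N := fun n hn => h.nrm g hg n hn
    have hgN' : ∀ n ∈ N, g⁻¹ * n * g ∈ N := fun n hn => by
      have := h.nrm g⁻¹ (inv_mem hg) n hn
      rwa [inv_inv] at this
    let γ : MulAut N :=
      { toFun := fun n => ⟨g * n * g⁻¹, hgN n n.2⟩
        invFun := fun n => ⟨g⁻¹ * n * g, hgN' n n.2⟩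
        left_inv := fun n => Subtype.ext (by show g⁻¹ * (g * n * g⁻¹) * g = n; group)
        right_inv := fun n => Subtype.ext (by show g * (g⁻¹ * n * g) * g⁻¹ = n; group)
        map_mul' := fun a b => Subtype.ext (by show g * (a * b) * g⁻¹ = g * a * g⁻¹ * (g * b * g⁻¹); group) }
    let β : MulAut (Fin k → T) := e.symm.trans (γ.trans e)
    obtain ⟨σ, φ, hσ⟩ := Cfsg.Agent.H936.AutPow.exists_form hTn β
    choose t ht using fun i => hcl (φ i)
    let n : N := e.symm fun j => t (σ.symm j)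
    refine ⟨n, n.2, ?_⟩
    have hle : cj g X ≤ cj (n : G) X := by
      rintro _ ⟨y, hy, rfl⟩
      have hyN := hXN hy
      rw [mem_cj]
      show (n : G)⁻¹ * (g * y * g⁻¹) * n ∈ X
      have h1 : (n : G)⁻¹ * (g * y * g⁻¹) * n = ((n⁻¹ * γ ⟨y, hyN⟩ * n : N) : G) := rfl
      rw [h1, hXm _ (Subtype.coe_prop _)]
      intro j
      have h2 : (⟨((n⁻¹ * γ ⟨y, hyN⟩ * n : N) : G), Subtype.coe_prop _⟩ : N) = n⁻¹ * γ ⟨y, hyN⟩ * n := rfl
      rw [h2, map_mul, map_mul, map_inv]
      have h3 : e n = fun j => t (σ.symm j) := e.apply_symm_apply _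
      have h4 : e (γ ⟨y, hyN⟩) = β (e ⟨y, hyN⟩) := by
        show _ = e (γ (e.symm (e ⟨y, hyN⟩)))
        rw [MulEquiv.symm_apply_apply]
      rw [h3, h4]
      show (t (σ.symm j))⁻¹ * β (e ⟨y, hyN⟩) j * t (σ.symm j) ∈ X₀
      have h5 := hσ (e ⟨y, hyN⟩) (σ.symm j)
      rw [Equiv.apply_symm_apply] at h5
      rw [h5]
      exact ht _ _ ((hXm y hyN).1 hy _)
    exact Subgroup.eq_of_le_of_card_ge hle (by rw [card_cj, card_cj]))
  apply hX
  -- `X₀` embeds in `X`
  let i₀ : Fin k := ⟨0, h.pos⟩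
  have hm : ∀ a : X₀, ((e.symm (Pi.mulSingle i₀ (a : T)) : N) : G) ∈ X := by
    intro a
    rw [hXm _ (Subtype.coe_prop _)]
    have h2 : (⟨((e.symm (Pi.mulSingle i₀ (a : T)) : N) : G), Subtype.coe_prop _⟩ : N) =
      e.symm (Pi.mulSingle i₀ (a : T)) := rfl
    rw [h2, MulEquiv.apply_symm_apply]
    intro j
    by_cases hj : j = i₀
    · rw [hj, Pi.mulSingle_eq_same]
      exact a.2
    · rw [Pi.mulSingle_eq_of_ne hj]
      exact one_mem _
  let f : X₀ →* X :=
    { toFun := fun a => ⟨_, hm a⟩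
      map_one' := Subtype.ext (by simp)
      map_mul' := fun a b => Subtype.ext (by
        show ((e.symm (Pi.mulSingle i₀ ((a : T) * b)) : N) : G) = _
        rw [Pi.mulSingle_mul, map_mul]
        rfl) }
  refine hXp.of_injective f ?_
  intro a b hab
  have h1 : ((e.symm (Pi.mulSingle i₀ (a : T)) : N) : G) = (e.symm (Pi.mulSingle i₀ (b : T)) : N) :=
    congrArg (fun z : X => (z : G)) hab
  exact Subtype.ext (Pi.mulSingle_injective i₀ (e.symm.injective (Subtype.ext h1)))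

/-- an `s`-free prime divisor -/
theorem exists_prime_of_not_isPGroup {K : Subgroup G} {s : ℕ} (h : ¬ IsPGroup s K) (hs : s.Prime) :
    ∃ r ∈ {r : ℕ | r.Prime ∧ r ≠ s}, r ∣ Nat.card K := by
  by_contra hcon
  push Not at hcon
  apply h
  have := Fact.mk hs
  rw [IsPGroup.iff_card]
  have h1 : ∀ r ∈ (Nat.card K).primeFactors, r = s := by
    intro r hr
    by_contra hne
    exact hcon r ⟨Nat.prime_of_mem_primeFactors hr, hne⟩ (Nat.dvd_of_mem_primeFactors hr)
  exact ⟨_, Nat.eq_prime_pow_of_unique_prime_dvd Nat.card_pos.ne' fun {d} hd hd' =>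
    h1 d (Nat.mem_primeFactors.2 ⟨hd, hd', Nat.card_pos.ne'⟩)⟩

/-- **`|G| ≤ |H| ^ 2 * z`**, `s` odd: `|C_G(x)| ≤ z * (|x| - 1)` for all `x ∈ H` of prime order `≠ s`. -/
theorem EPS.card_le_odd (h : EPS H N e) {s : ℕ} (hs : s.Prime) (hs2 : s ≠ 2) {z : ℕ}
    (hz : ∀ x ∈ H, (orderOf x).Prime → orderOf x ≠ s → Nat.card (centralizer {x}) ≤ z * (orderOf x - 1)) :
    Nat.card G ≤ Nat.card H ^ 2 * z :=
  EPi_sq (π := {r : ℕ | r.Prime ∧ r ≠ s}) (fun _ hr => hr.1)
    (fun _ hy => exists_prime_of_not_isPGroup (EPS.not_isPGroup h hs hs2 hy) hs) h.ep.max.1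
    (fun x hx hx' => hz x hx hx'.1 hx'.2)

/-- **`|G| ≤ |H| ^ 2 * z`**, any `s`: `|C_G(x)| ≤ z * (|x| - 1)` for all `x ∈ H` of prime order `≠ s`. -/
theorem EPS.card_le_of (h : EPS H N e) {s : ℕ} (hs : s.Prime)
    (hM : ∀ y ∉ H, ¬ IsPGroup s (H ⊓ cj y H : Subgroup G)) {z : ℕ}
    (hz : ∀ x ∈ H, (orderOf x).Prime → orderOf x ≠ s → Nat.card (centralizer {x}) ≤ z * (orderOf x - 1)) :
    Nat.card G ≤ Nat.card H ^ 2 * z :=
  EPi_sq (π := {r : ℕ | r.Prime ∧ r ≠ s}) (fun _ hr => hr.1)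
    (fun _ hy => exists_prime_of_not_isPGroup (hM _ hy) hs) h.ep.max.1
    (fun x hx hx' => hz x hx hx'.1 hx'.2)

end

end Cfsg.Agent.H807.EPX
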