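import Cfsg.Agent.H807.EPX.Deg
import Cfsg.Agent.H133.Ore.SuzOrb
import Cfsg.Agent.H805.EPX.Rows

/-!
# S5745: `Suz` is not a subgroup of `E₆(4)` (helper807)

The nontrivial representations of `Suz` over a field with a primitive cube root of unity have degree at least 110
(the subgroup `3⁵ : M₁₁`, certificate of helper133); `E₆(4)` is a group of `78 × 78` matrices.
-/

set_option autoImplicit false

namespace Cfsg.Agent.H807.EPX

open Cfsg Module Cfsg.Agent.H133.Ore.SuzOrb

/-- **Nontrivial representations of `Suz` have degree `≥ 110`**, over every field with a primitive cube root of unity. -/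
theorem suz_le_finrank {K : Type*} [Field K] {ζ : K} (hζ : IsPrimitiveRoot ζ 3) {W : Type*} [AddCommGroup W] [Module K W]
    [FiniteDimensional K W] (ρ : Representation K Spor.Suz W) (hρ : ∃ g, ρ g ≠ 1) : 110 ≤ finrank K W := by
  have : IsSimpleGroup Spor.Suz := Cfsg.Agent.SporadicRecognition.SuzOrder.simple
  exact Deg.le_finrank_field hζ x5_add x5_inj ρ hρ (by norm_num) hM tree roots

/-- `Suz` is not a subgroup of a linear group of degree `< 110` -/
theorem suz_no_gl {F : Type*} [Field F] {ζ : F} (hζ : IsPrimitiveRoot ζ 3) {ι : Type*} [Fintype ι] [DecidableEq ι]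
    (hι : Fintype.card ι < 110) (f : Spor.Suz →* GL ι F) (hf : Function.Injective f) : False := by
  have hs : IsSimpleGroup Spor.Suz := Cfsg.Agent.SporadicRecognition.SuzOrder.simple
  let ρ : Representation F Spor.Suz (ι → F) :=
    ((Matrix.toLinAlgEquiv' : Matrix ι ι F ≃ₐ[F] _).toMonoidHom : Matrix ι ι F →* Module.End F (ι → F)).comp
      ((Units.coeHom (Matrix ι ι F)).comp f)
  obtain ⟨g, hg⟩ := exists_ne (1 : Spor.Suz)
  have h1 := suz_le_finrank hζ ρ ⟨g, fun h => hg (by
    apply hf
    rw [map_one]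
    apply Units.ext
    apply (Matrix.toLinAlgEquiv' : Matrix ι ι F ≃ₐ[F] _).injective
    have h2 : (Matrix.toLinAlgEquiv' : Matrix ι ι F ≃ₐ[F] _) ((f g : GL ι F) : Matrix ι ι F) = 1 := h
    rw [h2, Units.val_one, map_one])⟩
  rw [Module.finrank_fintype_fun_eq_card] at h1
  omega

/-- a field with four elements contains a primitive cube root of unity -/
theorem exists_cube {F : Type*} [Field F] [Fintype F] (hF : Fintype.card F = 4) : ∃ ζ : F, IsPrimitiveRoot ζ 3 := by
  classical
  obtain ⟨x, hx⟩ : ∃ x : F, x ∉ ({0, 1} : Finset F) := by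
    by_contra hcon
    push Not at hcon
    have h1 : Fintype.card F ≤ ({0, 1} : Finset F).card := by
      rw [← Finset.card_univ]
      exact Finset.card_le_card fun y _ => hcon y
    have h2 := Finset.card_le_two (a := (0 : F)) (b := 1)
    omega
  simp only [Finset.mem_insert, Finset.mem_singleton, not_or] at hx
  refine ⟨x, ?_⟩
  have h1 : x ^ 3 = 1 := by
    have := FiniteField.pow_card_sub_one_eq_one x hx.1
    rwa [hF] at this
  have h2 : orderOf x = 3 := orderOf_eq_prime h1 hx.2
  rw [← h2]
  exact IsPrimitiveRoot.orderOf x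

/-- **the row `E₆(4)`, `Suz`** -/
theorem e6_4_Suz (F : Type) [Field F] [Fintype F] [IsSimpleGroup ↥(Lie.chevE6.group F)] (hF : Fintype.card F = 4) :
    Cfsg.Agent.H805.EPX.NoRow (fun T _ => Spor.IsoSuz T) ↥(Lie.chevE6.group F) := by
  intro H N T _ e _ hT
  obtain ⟨φ⟩ := hT
  obtain ⟨ζ, hζ⟩ := exists_cube hF
  let f₁ : Spor.Suz →* (Fin 1 → T) := MonoidHom.pi fun _ => φ.symm.toMonoidHom
  have h₁ : Function.Injective f₁ := fun a b h => φ.symm.injective (congrFun h 0)
  let f₂ : Spor.Suz →* GL (Lie.chevE6.Idx) F :=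
    (Lie.chevE6.group F).subtype.comp (N.subtype.comp (e.symm.toMonoidHom.comp f₁))
  have h₂ : Function.Injective f₂ := (Subgroup.subtype_injective _).comp
    ((Subgroup.subtype_injective _).comp (e.symm.injective.comp h₁))
  refine suz_no_gl hζ ?_ f₂ h₂
  have : Fintype.card (Lie.chevE6.Idx) = 78 := by decide
  omega

end Cfsg.Agent.H807.EPX
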